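-- Simple groups of order `p r q^b`.
--
-- * `two_pow_add_one_prime`, `two_pow_sub_one_prime`: exponents of Fermat and Mersenne primes
-- * `psl_five_or_seven`: the order of such a group is 60 or it is `L₂(7)`
import Cfsg.Agent.S0997
import Cfsg.Agent.S0494
import Cfsg.Agent.Lib.GLOrder.Basic
import Cfsg.Agent.Lib.SmallOrders.Basic

set_option autoImplicit false

namespace Cfsg.Agent.SmallOrders.ThreePrime

open Subgroup

theorem not_comm_of_not_cyclic {G : Type*} [Group G] [Finite G] [IsSimpleGroup G] (hG : ¬ IsCyclic G) :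
    ¬ IsMulCommutative G :=
  not_isMulCommutative_of_card fun hp =>
    have : Fact (Nat.card G).Prime := ⟨hp⟩
    hG (isCyclic_of_prime_card rfl)

theorem two_pow_exponent_even {m : ℕ} (hp : (2 ^ m + 1).Prime) : m = 0 ∨ m = 1 ∨ 2 ∣ m := by
  rcases eq_or_ne m 0 with h | h
  · exact Or.inl h
  obtain ⟨k, hk⟩ := Nat.pow_of_pow_add_prime one_lt_two h hp
  rcases Nat.eq_zero_or_pos k with rfl | hk0
  · exact Or.inr (Or.inl (by simpa using hk))
  · exact Or.inr (Or.inr (hk ▸ dvd_pow_self 2 hk0.ne'))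

/-- two neighbouring exponents of Fermat primes -/
theorem fermat_pair {m : ℕ} (hm : 2 ≤ m) (hp : (2 ^ m + 1).Prime) (hr : (2 ^ (m - 1) + 1).Prime) :
    m = 2 := by
  rcases two_pow_exponent_even hp with h | h | h <;>
    rcases two_pow_exponent_even hr with h' | h' | h' <;> omega

/-- two neighbouring exponents of Mersenne primes -/
theorem mersenne_pair {m : ℕ} (hm : 2 ≤ m) (hp : (2 ^ m - 1).Prime) (hr : (2 ^ (m - 1) - 1).Prime) :
    m = 3 := by
  have h1 := (Nat.prime_of_pow_sub_one_prime (by omega) hp).2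
  have h2 := (Nat.prime_of_pow_sub_one_prime (a := 2) (n := m - 1) (fun e => by
    rw [e] at hr; exact Nat.not_prime_one (by simpa using hr)) hr).2
  rcases h1.eq_two_or_odd with e | e
  · subst e; exact absurd h2 Nat.not_prime_one
  · rcases h2.eq_two_or_odd with e' | e' <;> omega

/-- a prime times a prime power equal to a two power times an odd number -/
theorem prime_of_mul_eq {r q b m u : ℕ} (hr : r.Prime) (hq : q.Prime) (hm : 2 ≤ m) (hu : Odd u)
    (h : r * q ^ b = 2 ^ m * u) : q = 2 ∧ (r = u ∨ (r = 2 ∧ u = 1)) := by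
  have h4 : 4 ∣ r * q ^ b := h ▸ (show (4 : ℕ) = 2 ^ 2 from rfl) ▸ (pow_dvd_pow 2 hm).mul_right u
  have hq2 : q = 2 := by
    by_contra hne
    have hc : Nat.Coprime 4 (q ^ b) := Nat.Coprime.pow_right b
      ((Nat.coprime_primes Nat.prime_two hq).mpr (Ne.symm hne) |>.pow_left 2)
    have := Nat.le_of_dvd hr.pos (hc.dvd_of_dvd_mul_right h4)
    have h5 := (Nat.dvd_prime hr).mp (hc.dvd_of_dvd_mul_right h4)
    rcases h5 with e | e
    · omega
    · exact absurd (e ▸ hr) (by norm_num)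
  refine ⟨hq2, ?_⟩
  subst hq2
  by_cases hr2 : r = 2
  · subst hr2
    refine Or.inr ⟨rfl, ?_⟩
    have h1 : u ∣ 2 ^ (b + 1) := ⟨2 ^ m, by rw [pow_succ, mul_comm u, ← h, mul_comm]⟩
    exact (Nat.coprime_two_right.mpr hu |>.pow_right (b + 1)).eq_one_of_dvd h1
  · left
    have hro : Odd r := hr.odd_of_ne_two hr2
    have h1 : r ∣ u := ((Nat.coprime_two_right.mpr hro).pow_right m).dvd_of_dvd_mul_left ⟨_, h.symm⟩
    have h2 : u ∣ r := ((Nat.coprime_two_right.mpr hu).pow_right b).dvd_of_dvd_mul_right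
      ⟨2 ^ m, by rw [h, mul_comm]⟩
    exact Nat.dvd_antisymm h1 h2

variable {G : Type*} [Group G] [Finite G] [IsSimpleGroup G]

theorem cases_of_lt (hG : ¬ IsCyclic G) {p q r b : ℕ} (hp : p.Prime) (hq : q.Prime) (hr : r.Prime)
    (hpq : p ≠ q) (hrp : r < p) (hqr : q ≠ r) (hG' : Nat.card G = p * r * q ^ b) :
    Nat.card G = 60 ∨
      ∃ (F : Type) (_ : Field F) (_ : Fintype F), Fintype.card F = 7 ∧
        Nonempty (G ≃* Matrix.ProjectiveSpecialLinearGroup (Fin 2) F) := by
  have hnc := not_comm_of_not_cyclic hG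
  have hlt : r < p - 1 := by
    by_contra hge
    have hr1 : p = r + 1 := by omega
    have hr2 : r = 2 := by
      rcases hr.eq_two_or_odd with e | e
      · exact e
      · rcases hp.eq_two_or_odd with e' | e' <;> have := hr.two_le <;> omega
    subst hr2
    have : Fact (Nat.Prime 2) := ⟨Nat.prime_two⟩
    have hqo : Odd q := hq.odd_of_ne_two hqr
    have hn : Nat.card G = 2 ^ 1 * (3 * q ^ b) := by rw [hG', hr1]; ring
    have hodd : ¬ 2 ∣ 3 * q ^ b := by
      rw [Nat.prime_two.dvd_mul]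
      rintro (h | h)
      · norm_num at h
      · exact hqr ((Nat.prime_dvd_prime_iff_eq Nat.prime_two hq).mp (Nat.prime_two.dvd_of_dvd_pow h)).symm
    obtain ⟨P⟩ := (inferInstance : Nonempty (Sylow 2 G))
    obtain ⟨s, i, hs, -, hi1, hi2, hsd⟩ := exists_prime_dvd_normalizer hnc one_ne_zero hn hodd P
      (have := isCyclic_of_prime_card (p := 2) (α := (P : Subgroup G))
        (by rw [card_sylow_subgroup hn hodd P, pow_one])
       inferInstance)
    obtain rfl : i = 1 := by omega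
    exact hs.ne_one (Nat.dvd_one.mp (by simpa using hsd))
  have hG'' : Nat.card G = p * q ^ b * r := by rw [hG']; ring
  rcases Cfsg.Agent.S0997.result hG p q b r hp hq hpq hG'' hlt with
    ⟨m, F, i1, i2, hF, hpm, ⟨e⟩⟩ | ⟨m, F, i1, i2, hF, hpm, hp3, ⟨e⟩⟩
  · have hF' : Nat.card F = p := Nat.card_eq_fintype_card.trans hF
    have hp5 : 4 < p := by
      rcases hr.eq_two_or_odd with e' | e' <;> rcases hp.eq_two_or_odd with e'' | e'' <;>
        have := hr.two_le <;> omega
    have hcard : 2 * Nat.card G = p * (p ^ 2 - 1) := by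
      rw [Nat.card_congr e.toEquiv, GLOrder.card_PSL_two_of_odd (hF'.symm ▸ hp.odd_of_ne_two (by omega)), hF']
    have hrq : 2 * (r * q ^ b) = (p + 1) * (p - 1) := by
      refine Nat.eq_of_mul_eq_mul_left hp.pos ?_
      rw [← Nat.sq_sub_sq, one_pow, ← hcard, hG']
      ring
    have hm2 : 2 ≤ m := by
      by_contra hlt'
      interval_cases m <;> norm_num at hpm <;> omega
    obtain ⟨c, rfl⟩ : ∃ c, m = c + 2 := ⟨m - 2, by omega⟩
    have hpow : 2 ^ (c + 2) = 4 * 2 ^ c := by ring
    have hpow1 : 2 ^ (c + 1) = 2 * 2 ^ c := by ring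
    rcases hpm with hpm | hpm
    · have h : r * q ^ b = 2 ^ (c + 2) * (2 ^ (c + 1) + 1) := by
        rw [hpm, hpow, show 4 * 2 ^ c + 1 + 1 = 2 * (2 * 2 ^ c + 1) by ring, Nat.add_sub_cancel] at hrq
        refine Nat.eq_of_mul_eq_mul_left two_pos ?_
        rw [hrq, hpow, hpow1]; ring
      obtain ⟨hq2, hr' | ⟨-, hr'⟩⟩ := prime_of_mul_eq hr hq (by omega) (by rw [hpow1]; exact odd_two_mul_add_one _) h
      · have hc := fermat_pair (m := c + 2) (by omega) (hpm ▸ hp)
          (by rw [show c + 2 - 1 = c + 1 by omega, ← hr']; exact hr)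
        left
        obtain rfl : c = 0 := by omega
        rw [hpm] at hcard
        norm_num at hcard
        omega
      · have := Nat.one_le_two_pow (n := c + 1)
        omega
    · obtain ⟨d, hd⟩ : ∃ d, 2 ^ c = d + 1 := ⟨2 ^ c - 1, by have := Nat.one_le_two_pow (n := c); omega⟩
      have h : r * q ^ b = 2 ^ (c + 2) * (2 ^ (c + 1) - 1) := by
        rw [hpm, hpow, hd, show 4 * (d + 1) - 1 = 4 * d + 3 by omega, show 4 * d + 3 + 1 = 4 * (d + 1) by ring,
          show 4 * d + 3 - 1 = 2 * (2 * d + 1) by omega] at hrq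
        rw [hpow, hpow1, hd, show 2 * (d + 1) - 1 = 2 * d + 1 by omega]
        refine Nat.eq_of_mul_eq_mul_left two_pos ?_
        rw [hrq]; ring
      obtain ⟨hq2, hr' | ⟨hr', hr''⟩⟩ := prime_of_mul_eq hr hq (by omega)
        (by rw [hpow1, hd, show 2 * (d + 1) - 1 = 2 * d + 1 by omega]; exact odd_two_mul_add_one _) h
      · have hc := mersenne_pair (m := c + 2) (by omega) (hpm ▸ hp)
          (by rw [show c + 2 - 1 = c + 1 by omega, ← hr']; exact hr)
        right
        obtain rfl : c = 1 := by omega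
        exact ⟨F, i1, i2, hF.trans (by rw [hpm]; norm_num), ⟨e⟩⟩
      · exact absurd (hq2.trans hr'.symm) hqr
  · have hF' : Nat.card F = 2 ^ m := Nat.card_eq_fintype_card.trans hF
    have hm1 : m ≠ 0 := by rintro rfl; norm_num at hpm; omega
    have hm2 : 2 ≤ m := by
      by_contra hlt'
      obtain rfl : m = 1 := by omega
      norm_num at hpm; omega
    have hcard : Nat.card G = 2 ^ m * ((2 ^ m) ^ 2 - 1) := by
      rw [Nat.card_congr e.toEquiv, GLOrder.card_PSL_two_of_even (hF'.symm ▸ Nat.even_pow.mpr ⟨even_two, hm1⟩), hF']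
    have h : r * q ^ b = 2 ^ m * (2 ^ m - 1) := by
      refine Nat.eq_of_mul_eq_mul_left hp.pos ?_
      rw [← mul_assoc, ← hG', hcard, ← one_pow 2, Nat.sq_sub_sq, one_pow, hpm]
      ring
    have h1 := Nat.one_le_two_pow (n := m)
    have hodd : Odd (2 ^ m - 1) := Nat.Even.sub_odd h1 (Nat.even_pow.mpr ⟨even_two, hm1⟩) odd_one
    obtain ⟨hq2, hr' | ⟨hr', -⟩⟩ := prime_of_mul_eq hr hq hm2 hodd h
    · have hmp := (Nat.prime_of_pow_sub_one_prime (a := 2) (n := m) (by omega) (hr' ▸ hr)).2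
      rcases two_pow_exponent_even (hpm ▸ hp) with h' | h' | h'
      · exact absurd h' hm1
      · omega
      · obtain rfl := ((Nat.prime_dvd_prime_iff_eq Nat.prime_two hmp).mp h').symm
        left
        rw [hcard]
        norm_num
    · exact absurd (hq2.trans hr'.symm) hqr

/-- both orders of the two distinguished primes -/
theorem psl_five_or_seven (hG : ¬ IsCyclic G) {p q r b : ℕ} (hp : p.Prime) (hq : q.Prime)
    (hr : r.Prime) (hpq : p ≠ q) (hpr : p ≠ r) (hqr : q ≠ r) (hG' : Nat.card G = p * r * q ^ b) :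
    Nat.card G = 60 ∨
      ∃ (F : Type) (_ : Field F) (_ : Fintype F), Fintype.card F = 7 ∧
        Nonempty (G ≃* Matrix.ProjectiveSpecialLinearGroup (Fin 2) F) := by
  rcases Nat.lt_or_gt_of_ne hpr with h | h
  · exact cases_of_lt (b := b) hG hr hq hp hqr.symm h hpq.symm (by rw [hG']; ring)
  · exact cases_of_lt hG hp hq hr hpq h hqr hG'

theorem iso_psl_five (h : Nat.card G = 60) :
    ∃ (F : Type) (_ : Field F) (_ : Fintype F), Fintype.card F = 5 ∧
      Nonempty (G ≃* Matrix.ProjectiveSpecialLinearGroup (Fin 2) F) := by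
  have : Fact (Nat.Prime 5) := ⟨Nat.prime_five⟩
  have h5 : Nat.card (ZMod 5) = 5 := Nat.card_zmod 5
  have hpsl : Nat.card (Matrix.ProjectiveSpecialLinearGroup (Fin 2) (ZMod 5)) = 60 := by
    have := GLOrder.card_PSL_two_of_odd (F := ZMod 5) (by rw [h5]; decide)
    rw [h5] at this
    omega
  have : IsSimpleGroup (Matrix.ProjectiveSpecialLinearGroup (Fin 2) (ZMod 5)) :=
    Matrix.ProjectiveSpecialLinearGroup.rank_two_simple (by omega)
  obtain ⟨e1⟩ := S0494.result h
  obtain ⟨e2⟩ := S0494.result hpsl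
  exact ⟨ZMod 5, inferInstance, inferInstance, ZMod.card 5, ⟨e1.trans e2.symm⟩⟩

end Cfsg.Agent.SmallOrders.ThreePrime
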