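-- Arithmetic of the degrees of the principal two-block for groups of order `4 g₀`
-- with `g₀` supported on two primes.
--
-- * `arith_pos`, `arith_neg`: the two sign patterns
-- * `exponents`: `3 ^ i * 5 ^ j = 15 r ^ 3` with a small exponent
import Mathlib
import Cfsg.Agent.EqLemmas

set_option autoImplicit false

namespace Cfsg.Agent.SmallOrders.ThreePrime

/-- every prime divisor of `n` is three or `p` -/
def Supp (p n : ℕ) : Prop := ∀ s : ℕ, s.Prime → s ∣ n → s = 3 ∨ s = p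

theorem Supp.of_dvd {p m n : ℕ} (h : Supp p n) (hd : m ∣ n) : Supp p m :=
  fun s hs hsm => h s hs (hsm.trans hd)

theorem Supp.dvd_of_not {p n : ℕ} (h : Supp p n) (hn : 1 < n) (h3 : ¬ 3 ∣ n) : p ∣ n := by
  obtain ⟨s, hs, hsn⟩ := Nat.exists_prime_and_dvd (show n ≠ 1 by omega)
  rcases h s hs hsn with rfl | rfl
  · exact absurd hsn h3
  · exact hsn

/-- two coprime supported numbers share out the two primes -/
theorem Supp.cases {p a b : ℕ} (hp : p.Prime) (ha : Supp p a) (hb : Supp p b) (ha1 : 1 < a)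
    (hb1 : 1 < b) (hab : Nat.Coprime a b) :
    (3 ∣ a ∧ p ∣ b ∧ ¬ p ∣ a ∧ ¬ 3 ∣ b) ∨ (3 ∣ b ∧ p ∣ a ∧ ¬ p ∣ b ∧ ¬ 3 ∣ a) := by
  have hnot : ∀ s : ℕ, s.Prime → s ∣ a → ¬ s ∣ b := fun s hs h1 h2 =>
    hs.ne_one (Nat.eq_one_of_dvd_coprimes hab h1 h2)
  by_cases h3 : 3 ∣ a
  · have hpb := hb.dvd_of_not hb1 (hnot 3 Nat.prime_three h3)
    exact Or.inl ⟨h3, hpb, fun h => hnot p hp h hpb, hnot 3 Nat.prime_three h3⟩
  · have hpa := ha.dvd_of_not ha1 h3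
    have hpb := hnot p hp hpa
    refine Or.inr ⟨?_, hpa, hpb, h3⟩
    by_contra h
    exact hpb (hb.dvd_of_not hb1 h)

theorem Supp.eq_pow {p n : ℕ} (h : Supp p n) (hn : n ≠ 0) (hpn : ¬ p ∣ n) : ∃ k, n = 3 ^ k := by
  refine ⟨n.primeFactorsList.length, Nat.eq_prime_pow_of_unique_prime_dvd hn ?_⟩
  intro s hs hsn
  rcases h s hs hsn with rfl | rfl
  · rfl
  · exact absurd hsn hpn

/-- the middle of two powers of three is a power of three only if they are equal -/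
theorem pow_three_eq {k l m : ℕ} (h : 3 ^ k + 3 ^ l = 2 * 3 ^ m) : k = m ∧ l = m := by
  wlog hkl : k ≤ l generalizing k l
  · exact (this (by rw [add_comm]; exact h) (le_of_not_ge hkl)).symm
  have h3 : (3 : ℕ) ^ k ≤ 3 ^ l := Nat.pow_le_pow_right (by norm_num) hkl
  have hkm : k ≤ m := (Nat.pow_le_pow_iff_right (by norm_num : 1 < 3)).mp (show 3 ^ k ≤ 3 ^ m by omega)
  have hml : m ≤ l := (Nat.pow_le_pow_iff_right (by norm_num : 1 < 3)).mp (show 3 ^ m ≤ 3 ^ l by omega)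
  obtain ⟨u, rfl⟩ := Nat.exists_eq_add_of_le hkm
  obtain ⟨v, rfl⟩ := Nat.exists_eq_add_of_le hml
  simp only [pow_add] at h
  have h' : 1 + 3 ^ u * 3 ^ v = 2 * 3 ^ u :=
    Nat.eq_of_mul_eq_mul_left (show 0 < 3 ^ k from Nat.pow_pos (by norm_num)) (by linarith)
  rcases Nat.eq_zero_or_pos u with rfl | hu
  · rcases Nat.eq_zero_or_pos v with rfl | hv
    · exact ⟨rfl, rfl⟩
    · have := Nat.pow_le_pow_right (show 0 < 3 by norm_num) hv
      omega
  · have : 3 ∣ 3 ^ u := dvd_pow_self 3 (by omega)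
    obtain ⟨w, hw⟩ := this
    rw [hw, mul_assoc] at h'
    omega

theorem dvd_of_sub {p n m k : ℕ} (hn : p ∣ n) (h : n + m = k) (hk : p ∣ k) : p ∣ m :=
  (Nat.dvd_add_right hn).mp (h ▸ hk)

theorem arith_neg {p g₀ r a b c : ℕ} (hp : p.Prime) (hp5 : 5 ≤ p) (hsupp : Supp p g₀) (hr : r ∣ g₀)
    (hx : 4 * a + 1 ∣ g₀) (hy : 4 * b + 3 ∣ g₀) (hz : 4 * c + 3 ∣ g₀) (ha : a ≠ 0)
    (hsum : 4 * a + 2 = (4 * b + 3) + (4 * c + 3))
    (heq : g₀ * ((2 * a + 1) * (2 * b + 1) * (2 * c + 1)) =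
      r ^ 3 * ((4 * a + 1) * (4 * b + 3) * (4 * c + 3))) :
    p = 5 ∧ g₀ = 15 * r ^ 3 := by
  have hsm : ∀ m, m ∣ (2 * a + 1) * (2 * b + 1) * (2 * c + 1) → Supp p m := by
    intro m hm s hs hsm
    have h1 : s ∣ r ^ 3 * ((4 * a + 1) * (4 * b + 3) * (4 * c + 3)) :=
      heq ▸ dvd_mul_of_dvd_right (hsm.trans hm) _
    rcases (Nat.Prime.dvd_mul hs).mp h1 with h | h
    · exact hsupp s hs ((hs.dvd_of_dvd_pow h).trans hr)
    rcases (Nat.Prime.dvd_mul hs).mp h with h | h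
    · rcases (Nat.Prime.dvd_mul hs).mp h with h | h
      · exact hsupp s hs (h.trans hx)
      · exact hsupp s hs (h.trans hy)
    · exact hsupp s hs (h.trans hz)
  have sA := hsm (2 * a + 1) ((dvd_mul_right _ _).mul_right _)
  have sB := hsm (2 * b + 1) ((dvd_mul_left _ _).mul_right _)
  have sC := hsm (2 * c + 1) (dvd_mul_left _ _)
  have sx := hsupp.of_dvd hx
  have hcop : ∀ m k : ℕ, k = 2 * m + 1 ∨ k + 1 = 2 * m → Nat.Coprime k m := by
    intro m k h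
    refine Nat.coprime_of_dvd fun s hs h1 h2 => hs.ne_one ?_
    rcases h with rfl | h
    · exact Nat.dvd_one.mp ((Nat.dvd_add_right (h2.mul_left 2)).mp h1)
    · exact Nat.dvd_one.mp ((Nat.dvd_add_right h1).mp (h ▸ h2.mul_left 2))
  have hxA := Supp.cases hp sx sA (by omega) (by omega) (hcop _ _ (Or.inr (by omega)))
  -- `y`: either a multiple of three prime to `p`, or congruent to one modulo three
  have key : ∀ d, 4 * d + 3 ∣ g₀ → Supp p (2 * d + 1) →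
      (3 ∣ 4 * d + 3 ∧ ¬ p ∣ 4 * d + 3) ∨ (p ∣ 4 * d + 3 ∧ (4 * d + 3) % 3 = 1) := by
    intro d hd sD
    rcases Nat.eq_zero_or_pos d with rfl | hd0
    · exact Or.inl ⟨dvd_refl 3, fun h => absurd (Nat.le_of_dvd (by norm_num) h) (by omega)⟩
    rcases Supp.cases hp (hsupp.of_dvd hd) sD (by omega) (by omega) (hcop _ _ (Or.inl (by omega))) with
      ⟨h1, -, h2, -⟩ | ⟨h1, h2, -, -⟩
    · exact Or.inl ⟨h1, h2⟩
    · exact Or.inr ⟨h2, by omega⟩
  have ky := key b hy sB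
  have kz := key c hz sC
  rcases hxA with ⟨h3x, hpA, -, h3A⟩ | ⟨h3A, hpx, hpA, -⟩
  · exfalso
    have hs : (4 * b + 3) + (4 * c + 3) = 2 * (2 * a + 1) := by omega
    rcases ky with ⟨h3y, hpy⟩ | ⟨hpy, hy3⟩ <;> rcases kz with ⟨h3z, hpz⟩ | ⟨hpz, hz3⟩
    · exact h3A (by omega)
    · exact hpy (dvd_of_sub hpz ((add_comm _ _).trans hs) (hpA.mul_left 2))
    · exact hpz (dvd_of_sub hpy hs (hpA.mul_left 2))
    · omega
  rcases ky with ⟨h3y, hpy⟩ | ⟨hpy, hy3⟩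
  swap
  · exfalso; rcases kz with ⟨h3z, -⟩ | ⟨-, hz3⟩ <;> omega
  rcases kz with ⟨h3z, hpz⟩ | ⟨hpz, hz3⟩
  swap
  · exfalso; omega
  obtain ⟨k, hk⟩ := (hsupp.of_dvd hy).eq_pow (by omega) hpy
  obtain ⟨l, hl⟩ := (hsupp.of_dvd hz).eq_pow (by omega) hpz
  obtain ⟨m, hm⟩ := sA.eq_pow (by omega) hpA
  obtain ⟨hk', hl'⟩ := pow_three_eq (k := k) (l := l) (m := m) (by omega)
  subst hk' hl'
  have hb : b = 0 := by
    by_contra hb
    rcases Supp.cases hp (hsupp.of_dvd hy) sB (by omega) (by omega) (hcop _ _ (Or.inl (by omega))) with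
      ⟨-, h1, -, -⟩ | ⟨-, h1, -, -⟩
    · rw [show 4 * a + 1 = 2 * (2 * b + 1) * 2 + 1 by omega] at hpx
      exact hp.not_dvd_one ((Nat.dvd_add_right ((h1.mul_left 2).mul_right 2)).mp hpx)
    · exact hpy h1
  subst hb
  obtain rfl : a = 1 := by omega
  obtain rfl : c = 0 := by omega
  refine ⟨((Nat.prime_dvd_prime_iff_eq hp Nat.prime_five).mp hpx), ?_⟩
  omega

theorem arith_pos {p g₀ e : ℕ} (hsupp : Supp p g₀) (he : e ≠ 0)
    (hdvd : (4 * e + 3) * (2 * e + 1) * (e + 1) ∣ g₀) : False := by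
  obtain ⟨s, hs, hs'⟩ := Nat.exists_prime_and_dvd (show 4 * e + 3 ≠ 1 by omega)
  obtain ⟨t, ht, ht'⟩ := Nat.exists_prime_and_dvd (show 2 * e + 1 ≠ 1 by omega)
  obtain ⟨u, hu, hu'⟩ := Nat.exists_prime_and_dvd (show e + 1 ≠ 1 by omega)
  have h1 : s ≠ t := fun h => hs.not_dvd_one
    ((Nat.dvd_add_right ((h ▸ ht').mul_left 2)).mp (show s ∣ 2 * (2 * e + 1) + 1 by
      rw [show 2 * (2 * e + 1) + 1 = 4 * e + 3 by omega]; exact hs'))
  have h2 : t ≠ u := fun h => ht.not_dvd_one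
    ((Nat.dvd_add_right ht').mp (show t ∣ 2 * e + 1 + 1 by
      rw [show 2 * e + 1 + 1 = 2 * (e + 1) by omega]; exact (h ▸ hu').mul_left 2))
  have h3 : s ≠ u := fun h => hs.not_dvd_one
    ((Nat.dvd_add_right hs').mp (show s ∣ 4 * e + 3 + 1 by
      rw [show 4 * e + 3 + 1 = 4 * (e + 1) by omega]; exact (h ▸ hu').mul_left 4))
  rcases hsupp s hs (hs'.trans ((dvd_mul_right _ _).trans ((dvd_mul_right _ _).trans hdvd))) with rfl | rfl <;>
    rcases hsupp t ht (ht'.trans ((dvd_mul_left _ _).trans ((dvd_mul_right _ _).trans hdvd))) with h | h <;>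
      rcases hsupp u hu (hu'.trans ((dvd_mul_left _ _).trans hdvd)) with h' | h' <;> omega

theorem exponents {r i j : ℕ} (hi : i ≠ 0) (hj : j ≠ 0) (h : i ≤ 2 ∨ j ≤ 2)
    (he : 3 ^ i * 5 ^ j = 15 * r ^ 3) : j = 1 ∧ (i = 1 ∨ 4 ≤ i) ∨ i = 1 := by
  have key : ∀ s t k l : ℕ, s.Prime → t.Prime → s ≠ t → 2 ≤ k → s ^ k * t ^ l = s * t * r ^ 3 → 4 ≤ k := by
    intro s t k l hs ht hst hk hkl
    have hco : Nat.Coprime s t := (Nat.coprime_primes hs ht).mpr hst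
    have h1 : s ∣ t * r ^ 3 := by
      refine Nat.dvd_of_mul_dvd_mul_left hs.pos (?_ : s * s ∣ s * (t * r ^ 3))
      rw [← mul_assoc, ← hkl, ← pow_two]
      exact (pow_dvd_pow s hk).mul_right _
    obtain ⟨w, hw⟩ := hs.dvd_of_dvd_pow (hco.dvd_of_dvd_mul_left h1)
    have h2 : s ^ 4 ∣ s ^ k * t ^ l := ⟨t * w ^ 3, by rw [hkl, hw]; ring⟩
    exact (Nat.pow_dvd_pow_iff_le_right hs.one_lt).mp
      (((hco.pow_left 4).pow_right l).dvd_of_dvd_mul_right h2)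
  by_cases hi1 : i = 1
  · exact Or.inr hi1
  have h4 := key 3 5 i j Nat.prime_three Nat.prime_five (by norm_num) (by omega) he
  refine Or.inl ⟨?_, Or.inr h4⟩
  by_contra hj1
  have := key 5 3 j i Nat.prime_five Nat.prime_three (by norm_num) (by omega) (by rw [mul_comm, he])
  omega

end Cfsg.Agent.SmallOrders.ThreePrime
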