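-- Characters of degree three or four that vanish on a singular class.
--
-- * `exists_degree`: a non-principal degree `r ^ k`, `1 ≤ k ≤ c`
-- * `centralizer_eq_of_degree_three`: an element of order three is self-centralising
-- * `card_centralizer_four`: a four Sylow subgroup is self-centralising
import Cfsg.Agent.S4500
import Cfsg.Agent.S0165
import Cfsg.Agent.Lib.Char.Linear
import Cfsg.Agent.Lib.Blocks.Simple
import Cfsg.Agent.Lib.SmallOrders.BlockDegrees.InvolutionValue
import Cfsg.Agent.Lib.SmallOrders.Basic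
import Cfsg.Agent.Lib.SmallOrders.Count

set_option autoImplicit false

namespace Cfsg.Agent.SmallOrders.ThreePrime

open Subgroup Cfsg Cfsg.Agent.Blocks
open scoped ComplexConjugate

variable {G : Type*} [Group G] [Finite G] [IsSimpleGroup G]

/-- a non-principal degree is a proper power of the first prime -/
theorem exists_degree (hG : ¬ IsMulCommutative G) {p q r a b c : ℕ} (hp : p.Prime) (hq : q.Prime)
    (hr : r.Prime) (hpq : p ≠ q) (hpr : p ≠ r) (hqr : q ≠ r) (ha : a ≤ 2)
    (h : Nat.card G = p ^ a * q ^ b * r ^ c) :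
    ∃ (χ : IrrCharacter G) (k : ℕ), (χ : G → ℂ) ≠ 1 ∧ k ≠ 0 ∧ k ≤ c ∧
      charDegree (χ : G → ℂ) = r ^ k := by
  have hna : ∃ x y : G, x * y ≠ y * x := by
    by_contra! hc
    exact hG ⟨⟨hc⟩⟩
  obtain ⟨-, χ, hne, k, hk⟩ := S4500.result p q r a b c hp hq hr hpq hpr hqr ha h
  refine ⟨χ, k, hne, fun h0 => hne (eq_one_of_degree_one hna ?_), ?_, hk⟩
  · rw [← charDegree_cast, hk, h0, pow_zero, Nat.cast_one]
  · have hd : r ^ k ∣ Nat.card G := hk ▸ charDegree_dvd_card χ
    rw [h] at hd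
    have hc1 : Nat.Coprime (r ^ k) (p ^ a * q ^ b) :=
      Nat.Coprime.mul_right (Nat.Coprime.pow _ _ ((Nat.coprime_primes hr hp).mpr hpr.symm))
        (Nat.Coprime.pow _ _ ((Nat.coprime_primes hr hq).mpr hqr.symm))
    exact (Nat.pow_dvd_pow_iff_le_right hr.one_lt).mp (hc1.dvd_of_dvd_mul_left hd)

theorem character_eq_zero {r c : ℕ} (hr : r.Prime) (hdvd : r ^ c ∣ Nat.card G)
    (hndvd : ¬ r ^ (c + 1) ∣ Nat.card G) {χ : IrrCharacter G}
    (hdeg : charDegree (χ : G → ℂ) = r ^ c) {g : G} (hg : r ∣ orderOf g) : (χ : G → ℂ) g = 0 := by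
  obtain ⟨n, ρ, hirr, hρ⟩ := χ.2
  have hn : charDegree ρ.character = n := by
    rw [charDegree, Representation.char_one, Module.finrank_fin_fun, Complex.natCast_re, Nat.floor_natCast]
  rw [← hρ] at hdeg ⊢
  exact S0165.result ρ r c hr hdvd hndvd (by rw [Module.finrank_fin_fun, ← hn, hdeg]) g hg

/-- three eigenvalues with vanishing sums of first and second powers -/
theorem sum_pow_three {a b c : ℂ} (h1 : a + b + c = 0) (h2 : a ^ 2 + b ^ 2 + c ^ 2 = 0) :
    a ^ 3 + b ^ 3 + c ^ 3 = 3 * (a * b * c) := by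
  linear_combination (a ^ 2 + b ^ 2 + c ^ 2 - a * b - b * c - c * a) * h1 + 0 * h2

/-- `χ(y^3)` has the largest absolute value when `χ` of degree three vanishes on `y` and `y^2` -/
theorem norm_pow_three {χ : IrrCharacter G} (hdeg : charDegree (χ : G → ℂ) = 3) {y : G}
    (h1 : (χ : G → ℂ) y = 0) (h2 : (χ : G → ℂ) (y ^ 2) = 0) :
    ‖(χ : G → ℂ) (y ^ 3)‖ = 3 := by
  obtain ⟨n, ρ, -, hρ⟩ := χ.2
  rw [← hρ] at hdeg h1 h2 ⊢
  rw [charDegree, Representation.char_one, Module.finrank_fin_fun, Complex.natCast_re, Nat.floor_natCast] at hdeg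
  subst hdeg
  obtain ⟨b, μ, hμ, hroot⟩ := Char.exists_eigenbasis ρ y
  set e : Fin (Module.finrank ℂ (Fin 3 → ℂ)) ≃ Fin 3 := finCongr (Module.finrank_fin_fun ℂ)
  set ν : Fin 3 → ℂ := fun i => μ (e.symm i) with hν
  have hsum : ∀ m, ρ.character (y ^ m) = ν 0 ^ m + ν 1 ^ m + ν 2 ^ m := fun m => by
    rw [Char.character_pow ρ y b μ hμ m, ← Fin.sum_univ_three fun i => ν i ^ m]
    exact Fintype.sum_equiv e _ _ fun i => by rw [hν]; simp
  have k1 : ν 0 + ν 1 + ν 2 = 0 := by
    have := hsum 1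
    rw [pow_one, h1] at this
    simpa using this.symm
  have k2 : ν 0 ^ 2 + ν 1 ^ 2 + ν 2 ^ 2 = 0 := ((hsum 2).symm.trans h2)
  have hunit : ∀ i, ‖ν i‖ = 1 := fun i =>
    Complex.norm_eq_one_of_pow_eq_one (hroot _) (orderOf_pos y).ne'
  rw [hsum 3, sum_pow_three k1 k2, norm_mul, norm_mul, norm_mul, hunit, hunit, hunit]
  norm_num

theorem centralizer_eq_of_degree_three (hG : ¬ IsMulCommutative G) (h3 : 3 ∣ Nat.card G)
    (h9 : ¬ 9 ∣ Nat.card G) {χ : IrrCharacter G} (hne : (χ : G → ℂ) ≠ 1)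
    (hdeg : charDegree (χ : G → ℂ) = 3) {x : G} (hx : orderOf x = 3) :
    centralizer ((zpowers x : Subgroup G) : Set G) = zpowers x := by
  have : Fact (Nat.Prime 3) := ⟨Nat.prime_three⟩
  have hzero : ∀ g : G, 3 ∣ orderOf g → (χ : G → ℂ) g = 0 := fun g hg =>
    character_eq_zero (c := 1) Nat.prime_three (by simpa using h3) (by simpa using h9) (by simpa using hdeg) hg
  -- singular elements have order three
  have hsing : ∀ g : G, 3 ∣ orderOf g → g ^ 3 = 1 := by
    intro g hg
    by_contra hne3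
    have h2 : 3 ∣ orderOf (g ^ 2) := by
      rw [orderOf_pow' g two_ne_zero]
      obtain ⟨m, hm⟩ := hg
      have hcase : Nat.gcd (orderOf g) 2 = 1 ∨ Nat.gcd (orderOf g) 2 = 2 :=
        (Nat.dvd_prime Nat.prime_two).mp (Nat.gcd_dvd_right _ _)
      rcases hcase with e | e
      · rw [e, Nat.div_one, hm]; exact dvd_mul_right 3 m
      · rw [e]
        obtain ⟨l, hl⟩ : 2 ∣ m := by
          have h1 := Nat.gcd_dvd_left (orderOf g) 2
          rw [e, hm] at h1
          exact (Nat.Coprime.dvd_of_dvd_mul_left (by norm_num) h1)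
        exact ⟨l, by rw [hm, hl]; omega⟩
    have := BlockDegrees.norm_lt_of_ne_one hG χ.2 hne hne3
    rw [norm_pow_three hdeg (hzero g hg) (hzero _ h2), hdeg] at this
    norm_num at this
  have hS : ∀ S : Sylow 3 G, Nat.card (S : Subgroup G) = 3 := fun S => by
    obtain ⟨m, hm⟩ := h3
    rw [card_sylow_subgroup (p := 3) (e := 1) (m := m) (by rw [hm, pow_one])
      (fun hd => h9 (by rw [hm]; exact Nat.mul_dvd_mul_left 3 hd)) S, pow_one]
  refine le_antisymm (fun g hg => ?_) (fun g hg => mem_centralizer_iff.mpr fun a ha => ?_)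
  swap
  · obtain ⟨i, rfl⟩ := mem_zpowers_iff.mp hg
    obtain ⟨j, rfl⟩ := mem_zpowers_iff.mp ha
    exact ((Commute.refl x).zpow_zpow j i).eq
  have hxg : Commute x g := mem_centralizer_iff.mp hg x (mem_zpowers x)
  by_cases hd : 3 ∣ orderOf g
  · -- both lie in the Sylow subgroup generated by `x`
    have hg3 := hsing g hd
    have hsub : zpowers x ⊔ zpowers g ≤ centralizer ({x} : Set G) :=
      sup_le (zpowers_le.mpr (mem_centralizer_singleton_iff.mpr rfl))
        (zpowers_le.mpr (mem_centralizer_singleton_iff.mpr hxg.symm.eq))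
    set H := zpowers x ⊔ zpowers g
    have hp : IsPGroup 3 H := by
      have h1 : IsPGroup 3 (zpowers x) := IsPGroup.of_card (n := 1) (by rw [Nat.card_zpowers, hx, pow_one])
      have h2 : IsPGroup 3 (zpowers g) := by
        refine IsPGroup.of_card (n := 1) ?_
        rw [Nat.card_zpowers, pow_one]
        exact ((Nat.dvd_prime Nat.prime_three).mp (orderOf_dvd_of_pow_eq_one hg3)).resolve_left
          fun e => by rw [e] at hd; norm_num at hd
      refine IsPGroup.to_sup_of_normal_right' h1 h2 fun a ha => mem_normalizer_iff.mpr fun b => ?_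
      obtain ⟨i, rfl⟩ := mem_zpowers_iff.mp ha
      constructor
      · intro hb
        obtain ⟨j, rfl⟩ := mem_zpowers_iff.mp hb
        rw [(hxg.zpow_zpow i j).eq, mul_inv_cancel_right]
        exact hb
      · intro hb
        obtain ⟨j, hj⟩ := mem_zpowers_iff.mp hb
        refine mem_zpowers_iff.mpr ⟨j, ?_⟩
        have := (hxg.zpow_zpow i j).eq
        calc g ^ j = (x ^ i)⁻¹ * (g ^ j) * x ^ i := by rw [mul_assoc, ← this, inv_mul_cancel_left]
          _ = b := by rw [hj]; group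
    obtain ⟨S, hS'⟩ := hp.exists_le_sylow
    have he : zpowers x = (S : Subgroup G) := eq_of_le_of_card_ge (le_sup_left.trans hS')
      (by rw [hS, Nat.card_zpowers, hx])
    rw [he]
    exact hS' (le_sup_right (a := zpowers x) (mem_zpowers g))
  · -- a regular element is trivial
    have hco : Nat.Coprime (orderOf x) (orderOf g) := by
      rw [hx]; exact Nat.prime_three.coprime_iff_not_dvd.mpr hd
    have h1 : 3 ∣ orderOf (x * g) := by
      rw [hxg.orderOf_mul_eq_mul_orderOf_of_coprime hco, hx]; exact dvd_mul_right 3 _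
    have h2 := hsing _ h1
    rw [hxg.mul_pow, show x ^ 3 = 1 from hx ▸ pow_orderOf_eq_one x, one_mul] at h2
    have h3' : orderOf g = 1 := by
      rcases (Nat.dvd_prime Nat.prime_three).mp (orderOf_dvd_of_pow_eq_one h2) with e | e
      · exact e
      · exact absurd (by rw [e]) hd
    rw [orderOf_eq_one_iff.mp h3']
    exact one_mem _

/-- no character of degree two -/
theorem degree_ne_two (hG : ¬ IsMulCommutative G) (h2 : 2 ∣ Nat.card G) {χ : IrrCharacter G}
    (hne : (χ : G → ℂ) ≠ 1) : charDegree (χ : G → ℂ) ≠ 2 := by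
  intro hdeg
  have : Fact (Nat.Prime 2) := ⟨Nat.prime_two⟩
  obtain ⟨t, ht⟩ := exists_prime_orderOf_dvd_card' (G := G) 2 h2
  have ht1 : t ≠ 1 := fun e => by simp [e] at ht
  obtain ⟨v, hv, h4⟩ := BlockDegrees.exists_int_mod_four hG (Char.IsIrrCharacter.isCharacter χ.2)
    (show t * t = 1 by rw [← pow_two, ← ht, pow_orderOf_eq_one])
  have := BlockDegrees.norm_lt_of_ne_one hG χ.2 hne ht1
  rw [hv, hdeg, Complex.norm_intCast] at this
  have h5 : |v| < 2 := by exact_mod_cast this
  rw [hdeg] at h4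
  rw [abs_lt] at h5
  omega

/-- a four Sylow subgroup is its own centraliser when a character has degree four -/
theorem card_centralizer_four (hG : ¬ IsMulCommutative G) {g₀ : ℕ} (hg₀ : Odd g₀)
    (hcard : Nat.card G = 4 * g₀) (P : Sylow 2 G) (hab : IsMulCommutative (P : Subgroup G))
    {χ : IrrCharacter G} (hne : (χ : G → ℂ) ≠ 1) (hdeg : charDegree (χ : G → ℂ) = 4) :
    Nat.card (centralizer ((P : Subgroup G) : Set G)) = 4 := by
  classical
  have : Fact (Nat.Prime 2) := ⟨Nat.prime_two⟩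
  have hg2 : ¬ 2 ∣ g₀ := fun h => Nat.not_even_iff_odd.2 hg₀ (even_iff_two_dvd.2 h)
  have hP4 : Nat.card (P : Subgroup G) = 4 := by
    rw [card_sylow_subgroup (p := 2) (e := 2) (m := g₀) (by rw [hcard]; norm_num) hg2 P]; norm_num
  set C := centralizer ((P : Subgroup G) : Set G)
  have hPC : (P : Subgroup G) ≤ C := fun a ha => mem_centralizer_iff.mpr fun b hb =>
    congrArg Subtype.val (mul_comm' (⟨b, hb⟩ : (P : Subgroup G)) ⟨a, ha⟩)
  have hzero : ∀ g : G, 2 ∣ orderOf g → (χ : G → ℂ) g = 0 := fun g hg =>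
    character_eq_zero (c := 2) Nat.prime_two (by rw [hcard]; exact dvd_mul_right _ _)
      (fun hd => by
        rw [hcard, show 2 ^ (2 + 1) = 4 * 2 from rfl] at hd
        exact hg2 (Nat.dvd_of_mul_dvd_mul_left (by norm_num) hd))
      (by simpa using hdeg) hg
  by_contra hne4
  obtain ⟨o, ho⟩ := hP4 ▸ card_dvd_of_le hPC
  have ho1 : o ≠ 1 := fun e => hne4 (by rw [ho, e])
  have ho0 : o ≠ 0 := fun e => by rw [e, mul_zero] at ho; exact Nat.card_pos.ne' ho
  obtain ⟨r, hr, hro⟩ := Nat.exists_prime_and_dvd ho1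
  have : Fact r.Prime := ⟨hr⟩
  have hr2 : r ≠ 2 := fun e => by
    have h1 : 4 * o ∣ 4 * g₀ := ho ▸ hcard ▸ card_subgroup_dvd_card C
    exact hg2 (e ▸ hro.trans (Nat.dvd_of_mul_dvd_mul_left (by norm_num) h1))
  obtain ⟨k₀, hk₀⟩ := exists_prime_orderOf_dvd_card' (G := C) r (ho ▸ hro.mul_left 4)
  set k : G := (k₀ : G) with hkdef
  have hk : orderOf k = r := by rw [hkdef, orderOf_coe, hk₀]
  set K := zpowers k
  have hKP : ∀ a ∈ K, ∀ v ∈ (P : Subgroup G), Commute a v := fun a ha v hv => by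
    obtain ⟨i, rfl⟩ := mem_zpowers_iff.mp ha
    have hkv : Commute k v := (mem_centralizer_iff.mp k₀.2 v hv).symm
    exact hkv.zpow_left i
  -- singular elements of `K P`
  have hvanish : ∀ a ∈ K, ∀ v ∈ (P : Subgroup G), v ≠ 1 → (χ : G → ℂ) (a * v) = 0 := by
    intro a ha v hv hv1
    refine hzero _ ?_
    have hv2 : 2 ∣ orderOf v := by
      obtain ⟨i, hi, hv'⟩ := (Nat.dvd_prime_pow Nat.prime_two (m := 2)).mp
        (show orderOf v ∣ 2 ^ 2 by norm_num; exact hP4 ▸ orderOf_dvd_natCard _ hv)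
      rcases Nat.eq_zero_or_pos i with e | e
      · rw [e, pow_zero, orderOf_eq_one_iff] at hv'; exact absurd hv' hv1
      · exact hv' ▸ dvd_pow_self 2 e.ne'
    have hao : orderOf a ∣ r := by
      have := orderOf_dvd_natCard _ ha
      rwa [Nat.card_zpowers, hk] at this
    have hvo : orderOf v ∣ 4 := hP4 ▸ orderOf_dvd_natCard _ hv
    have hco : Nat.Coprime (orderOf a) (orderOf v) :=
      Nat.Coprime.of_dvd hao hvo (((Nat.coprime_primes hr Nat.prime_two).mpr hr2).pow_right 2)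
    rw [(hKP a ha v hv).orderOf_mul_eq_mul_orderOf_of_coprime hco]
    exact hv2.mul_left _
  have := Fintype.ofFinite K
  have := Fintype.ofFinite (P : Subgroup G)
  let f : K × (P : Subgroup G) →* G :=
    MonoidHom.noncommCoprod K.subtype (P : Subgroup G).subtype fun a v => hKP a a.2 v v.2
  have hres : IsCharacter K fun a : K => (χ : G → ℂ) a :=
    Char.IsCharacter.restrict (Char.IsIrrCharacter.isCharacter χ.2) K
  have hres2 : IsCharacter (K × (P : Subgroup G)) fun z => (χ : G → ℂ) (f z) :=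
    Char.IsCharacter.comp_hom (Char.IsIrrCharacter.isCharacter χ.2) f
  -- each multiplicity on `K` is a multiple of four
  have hfour : ∀ θ : IrrCharacter K, ∃ m : ℕ, classInner (fun a : K => (χ : G → ℂ) a) (θ : K → ℂ) = 4 * m := by
    intro θ
    obtain ⟨m, hm⟩ := Char.IsCharacter.classInner_nat hres2
      (Char.IsCharacter.comp_hom (Char.IsIrrCharacter.isCharacter θ.2) (MonoidHom.fst K (P : Subgroup G)))
    refine ⟨m, ?_⟩
    have h1 := Char.card_mul_classInner (fun z => (χ : G → ℂ) (f z))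
      (fun z : K × (P : Subgroup G) => (θ : K → ℂ) z.1)
    have h2 := Char.card_mul_classInner (fun a : K => (χ : G → ℂ) a) (θ : K → ℂ)
    rw [Fintype.sum_prod_type] at h1
    have e : ∀ a : K, ∑ v : (P : Subgroup G), (χ : G → ℂ) (f (a, v)) * conj ((θ : K → ℂ) a) =
        (χ : G → ℂ) a * conj ((θ : K → ℂ) a) := fun a => by
      rw [Finset.sum_eq_single (1 : (P : Subgroup G))]
      · show (χ : G → ℂ) ((a : G) * ((1 : (P : Subgroup G)) : G)) * _ = _
        rw [OneMemClass.coe_one, mul_one]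
      · intro v _ hv
        show (χ : G → ℂ) ((a : G) * (v : G)) * _ = 0
        rw [hvanish a a.2 v v.2 fun e => hv (Subtype.ext e), zero_mul]
      · exact fun e => absurd (Finset.mem_univ _) e
    rw [Finset.sum_congr rfl fun a _ => e a, ← h2, Nat.card_prod, hP4] at h1
    rw [show classInner (fun z => (χ : G → ℂ) (f z)) (fun z : K × (P : Subgroup G) => (θ : K → ℂ) z.1) = m
      from hm] at h1
    push_cast at h1
    refine mul_left_cancel₀ (Nat.cast_ne_zero.mpr (Nat.card_pos (α := K)).ne' : (Nat.card K : ℂ) ≠ 0) ?_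
    linear_combination -h1
  choose m hm using hfour
  have := Fintype.ofFinite (IrrCharacter K)
  have hexp := Char.classFunction_eq_sum (Char.IsCharacter.isClassFunction hres)
  have hlin : ∀ θ : IrrCharacter K, (θ : K → ℂ) 1 = 1 := fun θ =>
    Char.apply_one_eq_one_of_comm (fun a b => mul_comm' a b) θ
  have hsum : ∑ θ : IrrCharacter K, m θ = 1 := by
    have h1 := congrFun hexp 1
    simp only [Finset.sum_apply, Pi.smul_apply, smul_eq_mul, hm, hlin, mul_one, OneMemClass.coe_one] at h1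
    rw [← charDegree_cast, hdeg, ← Finset.mul_sum, ← Nat.cast_sum] at h1
    have h1' : (4 : ℂ) * 1 = 4 * ((∑ θ : IrrCharacter K, m θ : ℕ) : ℂ) := by rw [mul_one]; exact_mod_cast h1
    exact_mod_cast (mul_left_cancel₀ (by norm_num : (4 : ℂ) ≠ 0) h1').symm
  obtain ⟨θ₀, -, hθ₀⟩ : ∃ θ ∈ Finset.univ, m θ ≠ 0 := by
    apply Finset.exists_ne_zero_of_sum_ne_zero
    rw [hsum]; exact one_ne_zero
  have hm0 : m θ₀ = 1 ∧ ∀ θ, θ ≠ θ₀ → m θ = 0 := by
    have h1 := Finset.add_sum_erase Finset.univ m (Finset.mem_univ θ₀)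
    rw [hsum] at h1
    exact ⟨by omega, fun θ hθ => by
      have := Finset.single_le_sum (f := m) (fun i _ => Nat.zero_le _)
        (Finset.mem_erase.mpr ⟨hθ, Finset.mem_univ θ⟩)
      omega⟩
  have hval : (χ : G → ℂ) k = 4 * (θ₀ : K → ℂ) ⟨k, mem_zpowers k⟩ := by
    have h1 := congrFun hexp ⟨k, mem_zpowers k⟩
    simp only [Finset.sum_apply, Pi.smul_apply, smul_eq_mul, hm] at h1
    rw [Finset.sum_eq_single θ₀ (fun θ _ hθ => by rw [hm0.2 θ hθ, Nat.cast_zero, mul_zero, zero_mul])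
      (fun e => absurd (Finset.mem_univ _) e), hm0.1, Nat.cast_one, mul_one] at h1
    exact h1
  obtain ⟨l, hl⟩ := Char.exists_hom_of_degree_one (Char.IsIrrCharacter.isCharacter θ₀.2) (hlin θ₀)
  have hroot : ‖(θ₀ : K → ℂ) ⟨k, mem_zpowers k⟩‖ = 1 := by
    refine Complex.norm_eq_one_of_pow_eq_one (n := r) ?_ hr.ne_zero
    rw [← hl, ← map_pow, show (⟨k, mem_zpowers k⟩ : K) ^ r = 1 from
      Subtype.ext (by rw [SubgroupClass.coe_pow, OneMemClass.coe_one]; exact hk ▸ pow_orderOf_eq_one k),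
      map_one]
  have hk1 : k ≠ 1 := fun e => by
    rw [e, orderOf_one] at hk; exact hr.ne_one hk.symm
  have := BlockDegrees.norm_lt_of_ne_one hG χ.2 hne hk1
  rw [hval, norm_mul, hroot, hdeg] at this
  norm_num at this

end Cfsg.Agent.SmallOrders.ThreePrime
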