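-- Simple groups of order `4 p^a q^b` or `3 p^a q^b` with `a ≤ 2`.
--
-- * `iso_of_three`: order `3 p^a q^b`
-- * `card_eq_of_four`: order `4 p^a q^b` forces order sixty
import Cfsg.Agent.Lib.SmallOrders.ThreePrime.Vanishing
import Cfsg.Agent.Lib.SmallOrders.ThreePrime.Arith
import Cfsg.Agent.Lib.SmallOrders.BlockDegrees.ValueFormula
import Cfsg.Agent.Lib.SmallOrders.BlockDegrees.Criterion
import Cfsg.Agent.Lib.CharApp.Burnside
import Cfsg.Agent.Lib.ZStar.KleinOrder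
import Cfsg.Agent.S0948
import Cfsg.Agent.S4479
import Cfsg.Agent.S4480
import Cfsg.Agent.S3331
import Cfsg.Agent.S0494

set_option autoImplicit false

namespace Cfsg.Agent.SmallOrders.ThreePrime

open Subgroup Cfsg Cfsg.Agent.Blocks

variable {G : Type*} [Group G] [Finite G] [IsSimpleGroup G]

theorem not_two_primes (hG : ¬ IsMulCommutative G) {p q a b : ℕ} (hp : p.Prime) (hq : q.Prime)
    (h : Nat.card G = p ^ a * q ^ b) : False := by
  have := CharApp.isSolvable_of_card_eq_prime_pow_mul p q hp hq _ G h a b rfl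
  exact hG ⟨⟨IsSimpleGroup.comm_iff_isSolvable.mpr this⟩⟩

theorem iso_of_three (hG : ¬ IsMulCommutative G) {p q a b : ℕ} (hp : p.Prime) (hq : q.Prime)
    (hpq : p ≠ q) (ha : a ≤ 2) (h : Nat.card G = 3 * p ^ a * q ^ b) :
    Nonempty (G ≃* alternatingGroup (Fin 5)) ∨
      Nonempty (G ≃* Matrix.ProjectiveSpecialLinearGroup (Fin 2) (ZMod 7)) := by
  have hp3 : p ≠ 3 := fun e => not_two_primes hG (p := 3) (q := q) (a := a + 1) (b := b) Nat.prime_three hq
    (by rw [h, e]; ring)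
  have hq3 : q ≠ 3 := fun e => not_two_primes hG (p := 3) (q := p) (a := b + 1) (b := a) Nat.prime_three hp
    (by rw [h, e]; ring)
  have hc3 : Nat.Coprime 3 (p ^ a * q ^ b) := Nat.Coprime.mul_right
    (((Nat.coprime_primes Nat.prime_three hp).mpr hp3.symm).pow_right a)
    (((Nat.coprime_primes Nat.prime_three hq).mpr hq3.symm).pow_right b)
  have h9 : ¬ 9 ∣ Nat.card G := fun hd => by
    rw [h, mul_assoc, show (9 : ℕ) = 3 * 3 from rfl] at hd
    have := Nat.eq_one_of_dvd_coprimes hc3 dvd_rfl (Nat.dvd_of_mul_dvd_mul_left (by norm_num) hd)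
    omega
  obtain ⟨χ, k, hne, hk0, hk1, hdeg⟩ :=
    exists_degree (a := a) (b := b) (c := 1) hG hp hq Nat.prime_three hpq hp3 hq3 ha (by rw [h]; ring)
  obtain rfl : k = 1 := by omega
  rw [pow_one] at hdeg
  have h3 : 3 ∣ Nat.card G := ⟨p ^ a * q ^ b, by rw [h]; ring⟩
  have : Fact (Nat.Prime 3) := ⟨Nat.prime_three⟩
  obtain ⟨x, hx⟩ := exists_prime_orderOf_dvd_card' (G := G) 3 h3
  have hnotsolv : ¬ Group.IsSolvable G := fun hs => hG ⟨⟨IsSimpleGroup.comm_iff_isSolvable.mpr hs⟩⟩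
  rcases S3331.result (zpowers x) (by rw [Nat.card_zpowers, hx])
      (centralizer_eq_of_degree_three hG h3 h9 hne hdeg hx) with
    ⟨N, hN, hnil, -, hquot⟩ | ⟨N, hN, hcomm, -, ⟨e⟩⟩ | h7
  · exfalso
    rcases hN.eq_bot_or_eq_top with rfl | rfl
    · have hcard : Nat.card (G ⧸ (⊥ : Subgroup G)) = Nat.card G :=
        Nat.card_congr QuotientGroup.quotientBot.toEquiv
      rcases hquot with h' | ⟨⟨e⟩⟩
      · exact not_two_primes hG (p := 3) (q := 2) (a := 1) (b := 0) Nat.prime_three Nat.prime_two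
          (by rw [← hcard, h']; norm_num)
      · refine not_two_primes hG (p := 3) (q := 2) (a := 1) (b := 1) Nat.prime_three Nat.prime_two ?_
        rw [← hcard, Nat.card_congr e.toEquiv, Nat.card_perm, Nat.card_fin]
        rfl
    · refine hnotsolv ?_
      have : Group.IsNilpotent G := Group.nilpotent_of_mulEquiv (Subgroup.topEquiv (G := G))
      infer_instance
  · rcases hN.eq_bot_or_eq_top with rfl | rfl
    · exact Or.inl ⟨QuotientGroup.quotientBot.symm.trans e⟩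
    · exact absurd ⟨⟨fun u v => congrArg Subtype.val
        (mul_comm' (⟨u, mem_top u⟩ : (⊤ : Subgroup G)) ⟨v, mem_top v⟩)⟩⟩ hG
  · exact Or.inr h7

theorem card_ne_1620 : Nat.card G ≠ 1620 := by
  intro h
  have hG : ¬ IsMulCommutative G := not_isMulCommutative_of_card (by rw [h]; norm_num)
  have : Fact (Nat.Prime 5) := ⟨by norm_num⟩
  obtain ⟨x, j, hmem, hx, hN, hC⟩ :=
    BlockDegrees.mem_of_blockBool hG h 5 41 [(81, 4)] (by decide +kernel)
  simp only [List.mem_singleton, Prod.mk.injEq] at hmem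
  obtain ⟨hd, rfl⟩ := hmem
  rw [hd] at hN
  have hN' : Nat.card (normalizer (zpowers x : Set G)) = 5 * 1 * 4 := by omega
  have hC' : Nat.card (centralizer ({x} : Set G)) = 5 * 1 := by omega
  obtain ⟨t, ht, htx⟩ := BlockDegrees.exists_inverting hx (by norm_num) (by norm_num) hC' hN'
  refine BlockDegrees.false_of_invBool' (lo := 2) (q := 2) (pos := true) (R := 41) hG h (by norm_num) hx
    (by norm_num) hC' hN' (Or.inl le_rfl) (by decide +kernel) ht ?_ fun _ => ⟨t, IsConj.refl t, htx⟩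
  rw [← ht]
  exact orderOf_dvd_natCard _ (mem_centralizer_singleton_iff.mpr rfl)

theorem card_eq_sixty_of_five_pow (hG : ¬ IsMulCommutative G) {j : ℕ} (hj : j ≠ 0)
    (h : Nat.card G = 12 * 5 ^ j) : Nat.card G = 60 := by
  have : Fact (Nat.Prime 5) := ⟨by norm_num⟩
  have hG' : Nat.card G = 5 ^ j * 12 := by rw [h]; ring
  obtain ⟨P⟩ := (inferInstance : Nonempty (Sylow 5 G))
  have h5 : 5 ∣ Nat.card G := hG' ▸ (dvd_pow_self 5 hj).mul_right _
  have hd : Nat.card (Sylow 5 G) ∣ 12 := index_sylow hG' (by norm_num) P ▸ P.card_dvd_index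
  have h1 := one_lt_card_sylow hG h5
  have hm : Nat.card (Sylow 5 G) % 5 = 1 := card_sylow_modEq_one 5 G
  have h2 := two_mul_card_dvd_factorial_sylow hG h5
  have hle := Nat.le_of_dvd (by norm_num) hd
  have h6 : Nat.card (Sylow 5 G) = 6 := by
    interval_cases hn : Nat.card (Sylow 5 G) <;> omega
  rw [h6, h, show Nat.factorial 6 = 24 * 30 from rfl, show 2 * (12 * 5 ^ j) = 24 * 5 ^ j by ring] at h2
  have h30 := Nat.dvd_of_mul_dvd_mul_left (by norm_num : 0 < 24) h2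
  have : j < 2 := by
    by_contra hlt
    exact absurd ((pow_dvd_pow 5 (le_of_not_gt hlt)).trans h30) (by norm_num)
  obtain rfl : j = 1 := by omega
  rw [h]
  norm_num

theorem card_eq_sixty_of_three_pow (hG : ¬ IsMulCommutative G) {i : ℕ} (hi : i = 1 ∨ 4 ≤ i)
    (h : Nat.card G = 20 * 3 ^ i) : Nat.card G = 60 := by
  have : Fact (Nat.Prime 3) := ⟨by norm_num⟩
  have hG' : Nat.card G = 3 ^ i * 20 := by rw [h]; ring
  obtain ⟨P⟩ := (inferInstance : Nonempty (Sylow 3 G))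
  have h3 : 3 ∣ Nat.card G := hG' ▸ (dvd_pow_self 3 (by omega)).mul_right _
  have hd : Nat.card (Sylow 3 G) ∣ 20 := index_sylow hG' (by norm_num) P ▸ P.card_dvd_index
  have h1 := one_lt_card_sylow hG h3
  have hm : Nat.card (Sylow 3 G) % 3 = 1 := card_sylow_modEq_one 3 G
  have h2 := two_mul_card_dvd_factorial_sylow hG h3
  have hle := Nat.le_of_dvd (by norm_num) hd
  rcases hi with rfl | hi
  · rw [h]; norm_num
  have h10 : Nat.card (Sylow 3 G) = 10 := by
    have h10' : Nat.card (Sylow 3 G) = 4 ∨ Nat.card (Sylow 3 G) = 10 := by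
      interval_cases hn : Nat.card (Sylow 3 G) <;> omega
    refine h10'.resolve_left fun h4 => ?_
    rw [h4, h] at h2
    have := Nat.le_of_dvd (by decide) h2
    have : 3 ^ 4 ≤ 3 ^ i := Nat.pow_le_pow_right (by norm_num) hi
    rw [show Nat.factorial 4 = 24 from rfl] at *
    omega
  rw [h10, h, show Nat.factorial 10 = 40 * 90720 from rfl,
    show 2 * (20 * 3 ^ i) = 40 * 3 ^ i by ring] at h2
  have hd' := Nat.dvd_of_mul_dvd_mul_left (by norm_num : 0 < 40) h2
  have : i < 5 := by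
    by_contra hlt
    exact absurd ((pow_dvd_pow 3 (le_of_not_gt hlt)).trans hd') (by norm_num)
  obtain rfl : i = 4 := by omega
  exact absurd (show Nat.card G = 1620 by rw [h]; norm_num) card_ne_1620

/-- the odd part `3^i p^j` with a four Sylow subgroup of centraliser four -/
theorem card_eq_sixty_of_four (hG : ¬ IsMulCommutative G) {p i j : ℕ} (hp : p.Prime) (hp5 : 5 ≤ p)
    (hi : i ≠ 0) (hj : j ≠ 0) (hij : i ≤ 2 ∨ j ≤ 2) (h : Nat.card G = 4 * (3 ^ i * p ^ j))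
    (P : Sylow 2 G) (hc : Nat.card (centralizer ((P : Subgroup G) : Set G)) = 4) :
    Nat.card G = 60 := by
  set g₀ := 3 ^ i * p ^ j with hg₀def
  have hg₀ : Odd g₀ := (Odd.pow (by decide)).mul (Odd.pow (hp.odd_of_ne_two (by omega)))
  have hg1 : g₀ ≠ 1 := fun e => by
    have h3 : 3 ∣ g₀ := hg₀def ▸ (dvd_pow_self 3 hi).mul_right _
    rw [e] at h3; omega
  have hsupp : Supp p g₀ := fun s hs hsg => by
    rcases (Nat.Prime.dvd_mul hs).mp hsg with h' | h'
    · exact Or.inl ((Nat.prime_dvd_prime_iff_eq hs Nat.prime_three).mp (hs.dvd_of_dvd_pow h'))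
    · exact Or.inr ((Nat.prime_dvd_prime_iff_eq hs hp).mp (hs.dvd_of_dvd_pow h'))
  have hnc : ¬ ∃ N : Subgroup G, N.Normal ∧ Nat.card N = g₀ := by
    rintro ⟨N, hN, hcard⟩
    rcases hN.eq_bot_or_eq_top with rfl | rfl
    · exact hg1 (by rw [← hcard, Subgroup.card_bot])
    · rw [Subgroup.card_top, h] at hcard
      have := hg₀.pos
      omega
  obtain ⟨hK, hone⟩ := KleinOrder.setup hg₀ h hnc P
  haveI := hK
  obtain ⟨M, hM⟩ := exists_isPModular Nat.prime_two
  obtain ⟨ζ₂, ζ₃, ζ₄, ε, hε, h2ne, h3ne, h23, h24, h34, hB, hval, hm2, hm3, hm4, hrel⟩ :=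
    S0948.result M hM P hK hone
  have : Fact (Nat.Prime 2) := ⟨Nat.prime_two⟩
  obtain ⟨⟨J, hJP⟩, hJ⟩ := exists_prime_orderOf_dvd_card' (G := (P : Subgroup G)) 2
    (by rw [IsKleinFour.card_four]; norm_num)
  rw [orderOf_mk] at hJ
  obtain ⟨hv2, hv3, hv4⟩ := hval J hJ
  have h4ne : (ζ₄ : G → ℂ) ≠ fun _ => 1 := fun e => by
    rw [e] at hv4; norm_num at hv4
  -- the degrees
  set d₂ := charDegree (ζ₂ : G → ℂ) with hd₂
  set d₃ := charDegree (ζ₃ : G → ℂ) with hd₃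
  set d₄ := charDegree (ζ₄ : G → ℂ) with hd₄
  have hrel1 : (1 : ℤ) + d₂ + ε * d₃ - d₄ = 0 := by
    have h1 := hrel 1 (by rw [orderOf_one]; exact odd_one)
    rw [← charDegree_cast ζ₂, ← charDegree_cast ζ₃, ← charDegree_cast ζ₄, ← hd₂, ← hd₃, ← hd₄] at h1
    exact_mod_cast h1
  have hna : ∃ u v : G, u * v ≠ v * u := by
    by_contra! hc'
    exact hG ⟨⟨hc'⟩⟩
  have hd₂1 : d₂ ≠ 1 := fun e => h2ne (eq_one_of_degree_one hna
    (by rw [← charDegree_cast, ← hd₂, e, Nat.cast_one]))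
  have hdvd : ∀ χ : IrrCharacter G, charDegree (χ : G → ℂ) % 2 = 1 → charDegree (χ : G → ℂ) ∣ g₀ := by
    intro χ hodd
    have h1 : charDegree (χ : G → ℂ) ∣ 4 * g₀ := h ▸ charDegree_dvd_card χ
    refine Nat.Coprime.dvd_of_dvd_mul_left ?_ h1
    have : Nat.Coprime (charDegree (χ : G → ℂ)) 2 :=
      (Nat.prime_two.coprime_iff_not_dvd.mpr (by omega)).symm
    exact this.mul_right this
  have hεJ : (ε : ℤ) = 1 ∨ ε = -1 := hε
  rcases hε with rfl | rfl
  · -- the pattern `1 1 -1`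
    exfalso
    have e4 : d₄ % 4 = 3 := by omega
    obtain ⟨m, -, hm⟩ := S4480.result M hM g₀ hg₀ h hnc P J hJP hJ ζ₂ ζ₃ ζ₄ 1 1 (-1) hB
      ⟨h2ne, h3ne, h4ne, h23, h24, h34⟩ ⟨Or.inl rfl, Or.inl rfl, Or.inr rfl⟩ ⟨by simpa using hv2, hv3, by simpa using hv4⟩
      (by norm_num) rfl
    rw [h, hc, ← hd₄] at hm
    obtain ⟨e, he⟩ : ∃ e, d₄ = 4 * e + 3 := ⟨d₄ / 4, by omega⟩
    have he0 : e ≠ 0 := by
      intro h0
      have : d₂ % 4 = 1 := by omega
      have : d₃ % 4 = 1 := by omega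
      omega
    refine arith_pos hsupp he0 ⟨m ^ 3, ?_⟩
    have hcube : d₄ ^ 3 - d₄ = 8 * ((4 * e + 3) * (2 * e + 1) * (e + 1)) := by
      rw [he]
      apply Nat.sub_eq_of_eq_add
      ring
    rw [hcube] at hm
    linarith
  · -- the pattern `1 -1 -1`
    have e2 : d₂ % 4 = 1 := by omega
    have e3 : d₃ % 4 = 3 := by omega
    have e4 : d₄ % 4 = 3 := by omega
    have hform := S4479.result M hM g₀ hg₀ h hnc P J hJP hJ ζ₂ ζ₃ ζ₄ 1 (-1) (-1) hB
      ⟨h2ne, h3ne, h4ne, h23, h24, h34⟩ ⟨Or.inl rfl, Or.inr rfl, Or.inr rfl⟩ ⟨by simpa using hv2, hv3, by simpa using hv4⟩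
    obtain ⟨a, ha⟩ : ∃ a, d₂ = 4 * a + 1 := ⟨d₂ / 4, by omega⟩
    obtain ⟨b, hb⟩ : ∃ b, d₃ = 4 * b + 3 := ⟨d₃ / 4, by omega⟩
    obtain ⟨c, hc'⟩ : ∃ c, d₄ = 4 * c + 3 := ⟨d₄ / 4, by omega⟩
    obtain ⟨r, hr⟩ : 4 ∣ Nat.card (centralizer ({J} : Set G)) := by
      rw [← IsKleinFour.card_four (G := (P : Subgroup G))]
      exact card_dvd_of_le (KleinOrder.le_cent P hJP)
    have hrg : r ∣ g₀ := Nat.dvd_of_mul_dvd_mul_left (by norm_num : 0 < 4)
      (hr ▸ h ▸ card_subgroup_dvd_card _)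
    rw [← hd₂, ← hd₃, ← hd₄, h, hc, hr, ha, hb, hc'] at hform
    have heq : g₀ * ((2 * a + 1) * (2 * b + 1) * (2 * c + 1)) =
        r ^ 3 * ((4 * a + 1) * (4 * b + 3) * (4 * c + 3)) := by
      push_cast at hform
      have hden : (((4 : ℚ) * a + 1 + 1) * (4 * b + 3 + -1) * (4 * c + 3 + -1)) * 4 ^ 2 ≠ 0 := by
        ring_nf; positivity
      rw [mul_div_assoc', div_mul_eq_mul_div, div_div, eq_div_iff hden] at hform
      have : ((g₀ * ((2 * a + 1) * (2 * b + 1) * (2 * c + 1)) : ℕ) : ℚ) =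
          ((r ^ 3 * ((4 * a + 1) * (4 * b + 3) * (4 * c + 3)) : ℕ) : ℚ) := by
        push_cast
        linear_combination hform / 512
      exact_mod_cast this
    obtain ⟨rfl, hg⟩ := arith_neg hp hp5 hsupp hrg (ha ▸ hdvd ζ₂ (by omega)) (hb ▸ hdvd ζ₃ (by omega))
      (hc' ▸ hdvd ζ₄ (by omega)) (by omega) (by omega) heq
    rcases exponents hi hj hij (hg₀def.symm.trans hg) with ⟨rfl, hi'⟩ | rfl
    · exact card_eq_sixty_of_three_pow hG hi' (by rw [h, hg₀def]; ring)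
    · exact card_eq_sixty_of_five_pow hG hj (by rw [h, hg₀def]; ring)

theorem card_eq_of_four (hG : ¬ IsMulCommutative G) {p q a b : ℕ} (hp : p.Prime) (hq : q.Prime)
    (hpq : p ≠ q) (ha : a ≤ 2) (h : Nat.card G = 4 * p ^ a * q ^ b) : Nat.card G = 60 := by
  have : Fact (Nat.Prime 2) := ⟨Nat.prime_two⟩
  have hp2 : p ≠ 2 := fun e => not_two_primes hG (p := 2) (q := q) (a := a + 2) (b := b) Nat.prime_two hq
    (by rw [h, e]; ring)
  have hq2 : q ≠ 2 := fun e => not_two_primes hG (p := 2) (q := p) (a := b + 2) (b := a) Nat.prime_two hp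
    (by rw [h, e]; ring)
  have ha0 : a ≠ 0 := fun e => not_two_primes hG (p := 2) (q := q) (a := 2) (b := b) Nat.prime_two hq
    (by rw [h, e]; ring)
  have hb0 : b ≠ 0 := fun e => not_two_primes hG (p := 2) (q := p) (a := 2) (b := a) Nat.prime_two hp
    (by rw [h, e]; ring)
  have hG' : Nat.card G = 2 ^ 2 * (p ^ a * q ^ b) := by rw [h]; ring
  have hodd : Odd (p ^ a * q ^ b) :=
    (Odd.pow (hp.odd_of_ne_two hp2)).mul (Odd.pow (hq.odd_of_ne_two hq2))
  have hm : ¬ 2 ∣ p ^ a * q ^ b := fun hd => Nat.not_even_iff_odd.2 hodd (even_iff_two_dvd.2 hd)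
  obtain ⟨χ, k, hne, hk0, hk2, hdeg⟩ :=
    exists_degree (a := a) (b := b) (c := 2) hG hp hq Nat.prime_two hpq hp2 hq2 ha (by rw [h]; ring)
  have hdeg4 : charDegree (χ : G → ℂ) = 4 := by
    rcases (show k = 1 ∨ k = 2 by omega) with rfl | rfl
    · exact absurd (by simpa using hdeg) (degree_ne_two hG (hG' ▸ (dvd_pow_self 2 two_ne_zero).mul_right _) hne)
    · simpa using hdeg
  obtain ⟨P⟩ := (inferInstance : Nonempty (Sylow 2 G))
  have hab : IsMulCommutative (P : Subgroup G) :=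
    IsPGroup.isMulCommutative_of_card_eq_prime_sq (card_sylow_subgroup hG' hm P)
  have hc := card_centralizer_four hG hodd (by rw [h]; ring) P hab hne hdeg4
  obtain ⟨s, i, hs, hsd, hi1, hi2, hsi⟩ := exists_prime_dvd_normalizer hG two_ne_zero hG' hm P hab
  obtain rfl : s = 3 := by
    interval_cases i
    · exact absurd (Nat.dvd_one.mp (by simpa using hsi)) hs.ne_one
    · exact (Nat.prime_dvd_prime_iff_eq hs Nat.prime_three).mp (by simpa using hsi)
  have h3 : 3 ∣ p ^ a * q ^ b := (dvd_mul_right 3 _).trans hsd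
  have five : ∀ s : ℕ, s.Prime → s ≠ 2 → s ≠ 3 → 5 ≤ s := fun s hs h2 h3 => by
    have := hs.two_le
    rcases (show s = 4 ∨ 5 ≤ s by omega) with rfl | h5
    · norm_num at hs
    · exact h5
  rcases (Nat.Prime.dvd_mul Nat.prime_three).mp h3 with h' | h'
  · obtain rfl := (Nat.prime_dvd_prime_iff_eq Nat.prime_three hp).mp (Nat.prime_three.dvd_of_dvd_pow h')
    exact card_eq_sixty_of_four hG hq (five q hq hq2 hpq.symm) ha0 hb0 (Or.inl ha)
      (by rw [h]; ring) P hc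
  · obtain rfl := (Nat.prime_dvd_prime_iff_eq Nat.prime_three hq).mp (Nat.prime_three.dvd_of_dvd_pow h')
    exact card_eq_sixty_of_four hG hp (five p hp hp2 hpq) hb0 ha0 (Or.inr ha)
      (by rw [h]; ring) P hc

end Cfsg.Agent.SmallOrders.ThreePrime
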